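import Mathlib

set_option autoImplicit false

/-!
# Project A7R (designer helper8): definitions for S0984 (3u): a simple group of order 2520 is isomorphic to `A_7`.

Strategy: assume that `G` has NO subgroup of index 7 (`Std.no7`; otherwise `G` embeds in `A_7` and we are done by cardinality),
run the complete local analysis of `G` (stages `St1` .. `St4`), and then construct a subgroup of order 360 as
`N ∪ N t N` (`N = N_G(P)`, `P` a Sylow 3-subgroup, `N ≅ 3^2 : 4`, `t` an involution normalizing a Sylow 2-subgroup `K` of `N`),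
which contradicts `no7`.
-/

namespace Cfsg.Agent.Lib.helper8.A7R

universe u

variable {G : Type u} [Group G]

/-- the centralizer of an element -/
abbrev Cz (g : G) : Subgroup G := Subgroup.centralizer ({g} : Set G)

/-- the normalizer of a subgroup -/
abbrev Nz (H : Subgroup G) : Subgroup G := Subgroup.normalizer (H : Set G)

/-- the centralizer of a subgroup -/
abbrev Cs (H : Subgroup G) : Subgroup G := Subgroup.centralizer (H : Set G)

/-- the number of elements of order `n` -/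
noncomputable def cnt (G : Type u) [Group G] (n : ℕ) : ℕ := Nat.card {g : G // orderOf g = n}

/-- every element of order `p` generates its own centralizer -/
def SelfC (G : Type u) [Group G] (p : ℕ) : Prop :=
  ∀ z : G, orderOf z = p → Cz z = Subgroup.zpowers z

/-- there are no elements of order `n` -/
def NoOrd (G : Type u) [Group G] (n : ℕ) : Prop := ∀ g : G, orderOf g ≠ n

/-- the centralizer of every involution has order divisible by 8 -/
def InvC8 (G : Type u) [Group G] : Prop := ∀ u : G, orderOf u = 2 → 8 ∣ Nat.card (Cz u)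

/-- the standing hypotheses: `G` is simple of order 2520 and has no subgroup of index 7 -/
structure Std (G : Type u) [Group G] : Prop where
  card : Nat.card G = 2520
  simple : IsSimpleGroup G
  no7 : ∀ H : Subgroup G, H.index ≠ 7

theorem Std.finite (h : Std G) : Finite G :=
  Nat.finite_of_card_ne_zero (by rw [h.card]; norm_num)

/-- stage 1: the Sylow 7-subgroups -/
structure St1 (G : Type u) [Group G] : Prop where
  selfc7 : SelfC G 7
  syl7 : Nat.card (Sylow 7 G) = 120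
  cnt7 : cnt G 7 = 720

/-- stage 2: the Sylow numbers for 5 and 3 -/
structure St2 (G : Type u) [Group G] : Prop where
  syl5 : Nat.card (Sylow 5 G) = 126
  no15 : NoOrd G 15
  no20 : NoOrd G 20
  cnt5 : cnt G 5 = 504
  syl3 : Nat.card (Sylow 3 G) = 70

/-- `x` is an element of type `3A`: order 3, centralizer of order 36 -/
def Is3A (x : G) : Prop := orderOf x = 3 ∧ Nat.card (Cz x) = 36

/-- `x` is an element of type `3B`: order 3, centralizer of order 9 -/
def Is3B (x : G) : Prop := orderOf x = 3 ∧ Nat.card (Cz x) = 9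

/-- stage 3: the 3-local structure -/
structure St3 (G : Type u) [Group G] : Prop where
  /-- Sylow 3-subgroups are self-centralizing -/
  centP : ∀ P : Sylow 3 G, Cs (P : Subgroup G) = (P : Subgroup G)
  /-- Sylow 3-subgroups are elementary abelian -/
  expP : ∀ P : Sylow 3 G, ∀ x ∈ (P : Subgroup G), x ^ 3 = 1
  /-- `N(P) / P` is cyclic of order 4 -/
  frobP : ∀ P : Sylow 3 G, ∃ k ∈ Nz (P : Subgroup G), orderOf k = 4
  /-- elements of order 3 have centralizers of order 9 or 36 -/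
  cent3 : ∀ x : G, orderOf x = 3 → Is3A x ∨ Is3B x
  /-- the four-group `O_2(C(x))` for `x` of type `3A` -/
  cent3V : ∀ x : G, Is3A x → ∃ V : Subgroup G, V ≤ Cz x ∧ Nat.card V = 4 ∧ (∀ v ∈ V, v ^ 2 = 1) ∧
    (∀ g ∈ Cz x, ∀ v ∈ V, g * v * g⁻¹ ∈ V) ∧ (∀ u ∈ Cz x, orderOf u = 2 → u ∈ V)

/-- the dihedral structure of a subgroup of order 8 -/
def IsD8 (S : Subgroup G) : Prop :=
  Nat.card S = 8 ∧ ∃ r s : G, r ∈ S ∧ s ∈ S ∧ orderOf r = 4 ∧ orderOf s = 2 ∧ s * r * s⁻¹ = r⁻¹ ∧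
    s ∉ Subgroup.zpowers r

/-- stage 4: the 2-local structure -/
structure St4 (G : Type u) [Group G] : Prop where
  selfc5 : SelfC G 5
  d8 : ∀ S : Sylow 2 G, IsD8 (S : Subgroup G)
  invconj : ∀ u v : G, orderOf u = 2 → orderOf v = 2 → ∃ g : G, g * u * g⁻¹ = v
  inv24 : ∀ u : G, orderOf u = 2 → Nat.card (Cz u) = 24
  /-- `C(u)` has a unique subgroup of order 3, and it is of type `3A` -/
  inv3 : ∀ u : G, orderOf u = 2 → ∃ x ∈ Cz u, Is3A x ∧ ∀ y ∈ Cz u, orderOf y = 3 → y = x ∨ y = x⁻¹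
  cent4 : ∀ k : G, orderOf k = 4 → Nat.card (Cz k) = 4
  /-- every Sylow 3-subgroup has exactly four elements of type `3A` -/
  cls3 : ∀ P : Sylow 3 G, Nat.card {x : G // x ∈ (P : Subgroup G) ∧ Is3A x} = 4

/-- the conjugate subgroup `g H g⁻¹` -/
def conjS (g : G) (H : Subgroup G) : Subgroup G := H.map (MulAut.conj g).toMonoidHom

theorem mem_conjS (g : G) (H : Subgroup G) (x : G) : x ∈ conjS g H ↔ g⁻¹ * x * g ∈ H := by
  unfold conjS
  rw [Subgroup.mem_map]
  constructor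
  · rintro ⟨y, hy, rfl⟩
    have : g⁻¹ * (MulAut.conj g).toMonoidHom y * g = y := by
      simp [MulAut.conj_apply, mul_assoc]
    rw [this]
    exact hy
  · intro h
    refine ⟨g⁻¹ * x * g, h, ?_⟩
    simp [MulAut.conj_apply, mul_assoc]

/-- the context of Part A: a Sylow 3-subgroup `P`, an element `k` of order 4 of `N(P)` (`K = ⟨k⟩`, `N(P) = P ⋊ K` a Frobenius group of order 36),
and an element `t` of `N(K) \ K` (`N(K)` a dihedral Sylow 2-subgroup, `Q = t P t⁻¹` the second Sylow 3-subgroup normalized by `K`) -/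
structure Ctx (P : Sylow 3 G) (k t : G) : Prop where
  hk : k ∈ Nz (P : Subgroup G)
  hk4 : orderOf k = 4
  /-- `k^2` inverts `P` -/
  inv : ∀ x ∈ (P : Subgroup G), k ^ 2 * x * (k ^ 2)⁻¹ = x⁻¹
  /-- `k` normalizes no subgroup of order 3 of `P` -/
  nofix : ∀ x ∈ (P : Subgroup G), x ≠ 1 → k * x * k⁻¹ ∉ Subgroup.zpowers x
  /-- `N(P) = P K` -/
  prod : ∀ n ∈ Nz (P : Subgroup G), ∃ x ∈ (P : Subgroup G), ∃ i : ℕ, n = x * k ^ i
  cardN : Nat.card (Nz (P : Subgroup G)) = 36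
  ht : t ∈ Nz (Subgroup.zpowers k)
  htK : t ∉ Subgroup.zpowers k
  ht2 : orderOf t = 2
  htk : t * k * t⁻¹ = k⁻¹
  htP : t ∉ Nz (P : Subgroup G)
  cardNK : Nat.card (Nz (Subgroup.zpowers k)) = 8
  /-- `K` normalizes exactly the two Sylow 3-subgroups `P` and `t P t⁻¹` -/
  fixK : ∀ P' : Sylow 3 G, k ∈ Nz (P' : Subgroup G) → (P' : Subgroup G) = (P : Subgroup G) ∨ (P' : Subgroup G) = conjS t (P : Subgroup G)
  /-- `N(P) ∩ N(t P t⁻¹) = K` -/
  inter : ∀ g : G, g ∈ Nz (P : Subgroup G) → g ∈ Nz (conjS t (P : Subgroup G)) → g ∈ Subgroup.zpowers k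

/-- the hexagon context: `j = k^2`, `xj` the element of type 3A of `C(j)`, `V = O_2(C(xj))`, `w ∈ V \ ⟨j⟩` -/
structure Hex (k xj w : G) (V : Subgroup G) : Prop where
  xj_mem : xj ∈ Cz (k ^ 2)
  xjA : Is3A xj
  xj_uniq : ∀ y ∈ Cz (k ^ 2), orderOf y = 3 → y = xj ∨ y = xj⁻¹
  V_le : V ≤ Cz xj
  V_card : Nat.card V = 4
  V_exp : ∀ v ∈ V, v ^ 2 = 1
  V_norm : ∀ g ∈ Cz xj, ∀ v ∈ V, g * v * g⁻¹ ∈ V
  V_inv : ∀ u ∈ Cz xj, orderOf u = 2 → u ∈ V
  w_mem : w ∈ V
  w_ne1 : w ≠ 1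
  w_nej : w ≠ k ^ 2
  j_mem : k ^ 2 ∈ V
  V_le_Cj : V ≤ Cz (k ^ 2)
  Cj_norm : ∀ g ∈ Cz (k ^ 2), ∀ v ∈ V, g * v * g⁻¹ ∈ V
  /-- an element of `C(j)` centralizes `xj` (and lies in `⟨xj⟩ V`) or inverts it -/
  Cj_dich : ∀ g ∈ Cz (k ^ 2), (g * xj = xj * g ∧ ∃ i : ℕ, ∃ v ∈ V, g = xj ^ i * v) ∨ g * xj * g⁻¹ = xj⁻¹

/-- the six `j`-invariant Sylow 3-subgroups `P_n = g^n P g^(-n)`, `g = xj w` of order 6 -/
def Pn (P : Sylow 3 G) (xj w : G) (n : ℕ) : Subgroup G := conjS ((xj * w) ^ n) (P : Subgroup G)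

/-- the double coset `N t N`, `N = N(P)` -/
def InD (P : Sylow 3 G) (t g : G) : Prop :=
  ∃ n ∈ Nz (P : Subgroup G), ∃ n' ∈ Nz (P : Subgroup G), g = n * t * n'

end Cfsg.Agent.Lib.helper8.A7R
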